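import Cfsg.Agent.H694.EB.Nilp
import Cfsg.Agent.H694.DGood
import Cfsg.Agent.Blocks.CyclicUpper

/-!
# TEAM EB, [U2]: no constituent of defect zero in certain permutation characters

If every point of `X` is fixed by a nontrivial element of the `p`-subgroup `U`, no irreducible character of
`p`-defect zero is a constituent of the permutation character.
-/

set_option autoImplicit false

namespace Cfsg.Agent.H686.EB.DefZero

open Cfsg Matrix
open Cfsg.Agent.H694.EB Cfsg.Agent.H694
open scoped ComplexConjugate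

universe u v

section

variable {G : Type u} [Group G] [Fintype G] {X : Type v} [MulAction G X] [Fintype X] [DecidableEq X]
variable {p : ℕ}

/-- a class sum which is nilpotent modulo `p` has scalar in `M` -/
theorem centralChar_mem {M : Ideal AlgInt} (hM : IsPModular p M) (χ : IrrCharacter G)
    (hχ : ∑ h : G, (Nat.card {x : X // h • x = x} : ℂ) * (χ : G → ℂ) h⁻¹ ≠ 0) (g : G)
    (hnil : ∃ N : ℕ, (Matrix.of fun x y : X => (cn g x y : ZMod p)) ^ N = 0) :
    ∃ a ∈ M, (a : ℂ) = centralChar (χ : G → ℂ) g := by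
  classical
  have : Fact p.Prime := ⟨hM.1⟩
  obtain ⟨n, ρ, hρ, hρχ⟩ := χ.2
  obtain ⟨N, hN⟩ := hnil
  have hp0 : (p : ℂ) ≠ 0 := by exact_mod_cast hM.1.ne_zero
  -- the integral matrix
  let C : Matrix X X ℤ := Matrix.of (fun x y : X => (cn g x y : ℤ))
  have hC : C.map (Int.castRingHom (ZMod p)) = (Matrix.of fun x y : X => (cn g x y : ZMod p)) := by
    ext x y
    simp only [C, Matrix.map_apply, Matrix.of_apply]
    simp
  have hCN : ∀ x y, (p : ℤ) ∣ (C ^ N) x y := by
    intro x y
    have h1 : (C ^ N).map (Int.castRingHom (ZMod p)) = 0 := by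
      have h2 := map_pow (Int.castRingHom (ZMod p)).mapMatrix C N
      have h3 : (Int.castRingHom (ZMod p)).mapMatrix C = C.map (Int.castRingHom (ZMod p)) := rfl
      rw [h3, hC, hN] at h2
      exact h2
    have h2 := congrFun (congrFun h1 x) y
    rw [Matrix.map_apply, Matrix.zero_apply] at h2
    exact (ZMod.intCast_zmod_eq_zero_iff_dvd _ p).1 h2
  choose Y hY using hCN
  have hCY : C ^ N = (p : ℤ) • (Matrix.of Y) := by
    ext x y
    rw [hY, Matrix.smul_apply, Matrix.of_apply, smul_eq_mul]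
  -- the eigenvector
  set lam : ℂ := centralChar (χ : G → ℂ) g with hlam
  let E : Matrix X X ℂ := em (χ : G → ℂ)
  have hE : E ≠ 0 := by
    intro h0
    apply hχ
    rw [← trace_em]
    show E.trace = 0
    rw [h0, Matrix.trace_zero]
  let f : Matrix X X ℤ →+* Matrix X X ℂ := (Int.castRingHom ℂ).mapMatrix
  have hfC : f C * E = lam • E := by
    have h1 : f C = csum ℂ g := by
      ext x y
      show (Int.castRingHom ℂ) (C x y) = _
      rw [csum_apply]
      simp only [C, Matrix.of_apply]
      simp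
    rw [h1]
    show csum ℂ g * em (χ : G → ℂ) = lam • em (χ : G → ℂ)
    rw [hlam, ← hρχ, csum_mul_em ρ hρ]
  have hfN : ∀ m : ℕ, f (C ^ m) * E = lam ^ m • E := by
    intro m
    induction m with
    | zero => rw [pow_zero, map_one, one_mul, pow_zero, one_smul]
    | succ m ih => rw [pow_succ, map_mul, mul_assoc, hfC, mul_smul_comm, ih, smul_smul, pow_succ,
        mul_comm lam]
  have hfY : f (Matrix.of Y) * E = (lam ^ N / p) • E := by
    have h1 := hfN N
    rw [hCY, map_zsmul, smul_mul_assoc] at h1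
    have h2 : (p : ℂ) • (f (Matrix.of Y) * E) = lam ^ N • E := by
      rw [← h1]
      ext x y
      simp
    rw [div_eq_inv_mul, ← smul_smul, ← h2, smul_smul, inv_mul_cancel₀ hp0, one_smul]
  have hint := isIntegral_of_mul (Matrix.of Y) E hE _ hfY
  have hlamI : IsIntegral ℤ lam := Blocks.CentralScalar.isIntegral_centralChar χ.2 g
  have hprime : M.IsPrime := hM.2.1.isPrime
  let a : AlgInt := ⟨lam, hlamI⟩
  let b : AlgInt := ⟨_, hint⟩
  have hab : a ^ N = (p : AlgInt) * b := by
    apply Subtype.ext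
    show lam ^ N = (((p : ℕ) : AlgInt) : ℂ) * (lam ^ N / p)
    have e2 : (((p : ℕ) : AlgInt) : ℂ) = (p : ℂ) := by simp
    rw [e2]
    field_simp
  refine ⟨a, hprime.mem_of_pow_mem N ?_, rfl⟩
  rw [hab]
  exact M.mul_mem_right _ hM.2.2

/-- The sum over a class of a function constant under conjugation by an element of order a power of `p` which
centralizes no element of the class. -/
theorem sum_conj_eq_zero [hp : Fact p.Prime] {g u : G} (hu : ∃ k : ℕ, orderOf u = p ^ k) (hu1 : u ≠ 1)
    (hg : ¬ p ∣ Nat.card (Subgroup.centralizer ({g} : Set G))) [DecidablePred (IsConj g)] (F : G → ZMod p)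
    (hF : ∀ h, F (u * h * u⁻¹) = F h) : ∑ h : G, (if IsConj g h then (1 : ZMod p) else 0) * F h = 0 := by
  classical
  have h1 : ∑ h : G, (if IsConj g h then (1 : ZMod p) else 0) * F h =
      ∑ t : ZMod p, (Nat.card {h : G // IsConj g h ∧ F h = t} : ZMod p) * t := by
    rw [← Finset.sum_fiberwise (s := Finset.univ) (g := F)]
    refine Finset.sum_congr rfl fun t _ => ?_
    rw [Nat.card_eq_fintype_card, Fintype.card_subtype, ← Finset.sum_boole, Finset.sum_mul, Finset.sum_filter]
    refine Finset.sum_congr rfl fun h _ => ?_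
    by_cases h3 : F h = t
    · rw [if_pos h3, h3]
      by_cases h2 : IsConj g h
      · rw [if_pos h2, if_pos ⟨h2, rfl⟩]
      · rw [if_neg h2, if_neg fun h' => h2 h'.1]
    · rw [if_neg h3, if_neg fun h' => h3 h'.2, zero_mul]
  rw [h1]
  refine Finset.sum_eq_zero fun t _ => ?_
  have h2 : p ∣ Nat.card {h : G // IsConj g h ∧ F h = t} := by
    have hinv : ∀ x ∈ Subgroup.zpowers u, ∀ h, F (x * h * x⁻¹) = F h := by
      intro x hx
      rw [Subgroup.zpowers_eq_closure] at hx
      induction hx using Subgroup.closure_induction with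
      | mem x hx =>
        rw [Set.mem_singleton_iff] at hx
        rw [hx]
        exact hF
      | one => intro h; simp
      | mul x y _ _ hx hy =>
        intro h
        have e : x * y * h * (x * y)⁻¹ = x * (y * h * y⁻¹) * x⁻¹ := by group
        rw [e, hx, hy]
      | inv x _ hx =>
        intro h
        have := hx (x⁻¹ * h * x⁻¹⁻¹)
        rw [← this]
        congr 1
        group
    let act : MulAction (Subgroup.zpowers u) {h : G // IsConj g h ∧ F h = t} :=
      { smul := fun x h => ⟨x * h.1 * (x : G)⁻¹, h.2.1.trans (isConj_iff.2 ⟨x, rfl⟩), by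
            rw [hinv _ x.2]
            exact h.2.2⟩
        one_smul := fun h => Subtype.ext (by
          change ((1 : Subgroup.zpowers u) : G) * h.1 * ((1 : Subgroup.zpowers u) : G)⁻¹ = h.1
          simp)
        mul_smul := fun x y h => Subtype.ext (by
          change ((x * y : Subgroup.zpowers u) : G) * h.1 * ((x * y : Subgroup.zpowers u) : G)⁻¹ =
            x * (y * h.1 * (y : G)⁻¹) * (x : G)⁻¹
          rw [Subgroup.coe_mul]
          group) }
    have hP : IsPGroup p (Subgroup.zpowers u) := by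
      obtain ⟨k, hk⟩ := hu
      exact IsPGroup.of_card (n := k) (by rw [Nat.card_zpowers, hk])
    have h3 := hP.card_modEq_card_fixedPoints {h : G // IsConj g h ∧ F h = t}
    have h4 : Nat.card (MulAction.fixedPoints (Subgroup.zpowers u) {h : G // IsConj g h ∧ F h = t}) = 0 := by
      have : IsEmpty (MulAction.fixedPoints (Subgroup.zpowers u) {h : G // IsConj g h ∧ F h = t}) := by
        refine ⟨fun h => ?_⟩
        have h5 := h.2 ⟨u, Subgroup.mem_zpowers u⟩
        have h6 : u * h.1.1 * u⁻¹ = h.1.1 := congrArg Subtype.val h5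
        obtain ⟨c, hc⟩ := isConj_iff.1 h.1.2.1
        -- the order of u divides the order of the centralizer
        have h7 : c⁻¹ * u * c ∈ Subgroup.centralizer ({g} : Set G) := by
          rw [Subgroup.mem_centralizer_singleton_iff]
          have h8 : u * (c * g * c⁻¹) = (c * g * c⁻¹) * u := by
            rw [hc]
            exact mul_inv_eq_iff_eq_mul.1 h6
          calc c⁻¹ * u * c * g = c⁻¹ * (u * (c * g * c⁻¹)) * c := by group
            _ = c⁻¹ * ((c * g * c⁻¹) * u) * c := by rw [h8]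
            _ = g * (c⁻¹ * u * c) := by group
        have h9 : orderOf (⟨c⁻¹ * u * c, h7⟩ : Subgroup.centralizer ({g} : Set G)) = orderOf u := by
          rw [Subgroup.orderOf_mk]
          have e : c⁻¹ * u * c = c⁻¹ * u * c⁻¹⁻¹ := by rw [inv_inv]
          rw [e, ← MulAut.conj_apply]
          exact MulEquiv.orderOf_eq (MulAut.conj c⁻¹) u
        have h10 := orderOf_dvd_natCard (⟨c⁻¹ * u * c, h7⟩ : Subgroup.centralizer ({g} : Set G))
        rw [h9] at h10
        obtain ⟨k, hk⟩ := hu
        have hk0 : k ≠ 0 := by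
          rintro rfl
          rw [pow_zero, orderOf_eq_one_iff] at hk
          exact hu1 hk
        apply hg
        exact (dvd_pow_self p hk0).trans (hk ▸ h10)
      exact Nat.card_of_isEmpty
    rw [h4] at h3
    exact (Nat.modEq_zero_iff_dvd).1 h3
  rw [(ZMod.natCast_eq_zero_iff _ _).2 h2, zero_mul]

omit [Fintype G] in
theorem pm_mulVec (h : G) (v : X → ZMod p) (x : X) : ((pm (ZMod p) h : Matrix X X (ZMod p)) *ᵥ v) x = v (h⁻¹ • x) := by
  rw [Matrix.mulVec, dotProduct, Finset.sum_eq_single (h⁻¹ • x)]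
  · rw [pm, Matrix.of_apply, if_pos (smul_inv_smul h x), one_mul]
  · intro y _ hy
    rw [pm, Matrix.of_apply, if_neg, zero_mul]
    intro h'
    apply hy
    rw [← h', inv_smul_smul]
  · intro h'
    exact absurd (Finset.mem_univ _) h'

theorem pm_csum (g u : G) : (pm (ZMod p) u : Matrix X X (ZMod p)) * csum (ZMod p) g =
    csum (ZMod p) g * pm (ZMod p) u := by
  classical
  unfold csum
  rw [Finset.mul_sum, Finset.sum_mul]
  refine Fintype.sum_equiv (MulAut.conj u).toEquiv _ _ fun h => ?_
  rw [mul_smul_comm, smul_mul_assoc, pm_mul, pm_mul]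
  have e1 : (MulAut.conj u).toEquiv h * u = u * h := by
    change u * h * u⁻¹ * u = u * h
    group
  have e2 : IsConj g ((MulAut.conj u).toEquiv h) ↔ IsConj g h := by
    have e3 : IsConj h ((MulAut.conj u).toEquiv h) := isConj_iff.2 ⟨u, rfl⟩
    exact ⟨fun h' => h'.trans e3.symm, fun h' => h'.trans e3⟩
  rw [e1]
  simp only [e2]

/-- **The nilpotency.** -/
theorem nilp [hp : Fact p.Prime] (U : Subgroup G) (hU : IsPGroup p U)
    (hfix : ∀ x : X, ∃ g ∈ U, g ≠ 1 ∧ g • x = x) {g : G}
    (hg : ¬ p ∣ Nat.card (Subgroup.centralizer ({g} : Set G))) :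
    ∃ N : ℕ, (Matrix.of fun x y : X => (cn g x y : ZMod p)) ^ N = 0 := by
  classical
  rw [← csum_eq]
  let L : Module.End (ZMod p) (X → ZMod p) := Matrix.toLin' (csum (ZMod p) g)
  -- fixed vectors are killed
  have hkill : ∀ v : X → ZMod p, (∀ u ∈ U, (pm (ZMod p) u : Matrix X X (ZMod p)) *ᵥ v = v) → L v = 0 := by
    intro v hv
    have hv' : ∀ u ∈ U, ∀ x, v (u⁻¹ • x) = v x := by
      intro u hu x
      rw [← pm_mulVec u v x, hv u hu]
    funext x
    obtain ⟨u, hu, hu1, hux⟩ := hfix x
    change (csum (ZMod p) g *ᵥ v) x = 0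
    have h1 : (csum (ZMod p) g *ᵥ v) x = ∑ h : G, (if IsConj g h then (1 : ZMod p) else 0) * v (h⁻¹ • x) := by
      unfold csum
      rw [Matrix.sum_mulVec, Finset.sum_apply]
      refine Finset.sum_congr rfl fun h _ => ?_
      rw [Matrix.smul_mulVec, Pi.smul_apply, pm_mulVec, smul_eq_mul]
    rw [h1]
    refine sum_conj_eq_zero (u := u) ?_ hu1 hg (fun h => v (h⁻¹ • x)) ?_
    · obtain ⟨k, hk⟩ := IsPGroup.iff_orderOf.1 hU ⟨u, hu⟩
      exact ⟨k, by rw [← hk, Subgroup.orderOf_mk]⟩
    · intro h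
      have e : (u * h * u⁻¹)⁻¹ • x = u⁻¹⁻¹ • h⁻¹ • u⁻¹ • x := by
        rw [smul_smul, smul_smul]
        congr 1
        group
      rw [e, hv' _ (inv_mem hu)]
      congr 2
      rw [inv_smul_eq_iff]
      exact hux.symm
  -- the Fitting decomposition
  obtain ⟨n, hn⟩ := (L.eventually_isCompl_ker_pow_range_pow.and (Filter.eventually_ge_atTop 1)).exists
  obtain ⟨hn, hn1⟩ := hn
  have hcomm : ∀ u : G, (Matrix.toLin' (pm (ZMod p) u : Matrix X X (ZMod p))) * L =
      L * Matrix.toLin' (pm (ZMod p) u : Matrix X X (ZMod p)) := by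
    intro u
    change Matrix.toLin' _ * Matrix.toLin' _ = Matrix.toLin' _ * Matrix.toLin' _
    rw [Module.End.mul_eq_comp, Module.End.mul_eq_comp, ← Matrix.toLin'_mul, ← Matrix.toLin'_mul, pm_csum]
  have hstab : ∀ (u : G) (w : X → ZMod p), w ∈ LinearMap.range (L ^ n) →
      (pm (ZMod p) u : Matrix X X (ZMod p)) *ᵥ w ∈ LinearMap.range (L ^ n) := by
    rintro u w ⟨w', rfl⟩
    have h1 : Commute (Matrix.toLin' (pm (ZMod p) u : Matrix X X (ZMod p))) L := hcomm u
    have h2 := (h1.pow_right n).eq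
    refine ⟨(pm (ZMod p) u : Matrix X X (ZMod p)) *ᵥ w', ?_⟩
    exact (LinearMap.congr_fun h2 w').symm
  have hbot : LinearMap.range (L ^ n) = ⊥ := by
    by_contra hne
    have hnt : Nontrivial (LinearMap.range (L ^ n)) := Submodule.nontrivial_iff_ne_bot.2 hne
    let act : MulAction U (LinearMap.range (L ^ n)) :=
      { smul := fun u w => ⟨(pm (ZMod p) (u : G) : Matrix X X (ZMod p)) *ᵥ w.1, hstab _ _ w.2⟩
        one_smul := fun w => Subtype.ext (by
          change (pm (ZMod p) ((1 : U) : G) : Matrix X X (ZMod p)) *ᵥ w.1 = w.1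
          funext x
          rw [pm_mulVec]
          simp)
        mul_smul := fun a b w => Subtype.ext (by
          change (pm (ZMod p) ((a * b : U) : G) : Matrix X X (ZMod p)) *ᵥ w.1 =
            (pm (ZMod p) (a : G) : Matrix X X (ZMod p)) *ᵥ ((pm (ZMod p) (b : G) : Matrix X X (ZMod p)) *ᵥ w.1)
          rw [Matrix.mulVec_mulVec, pm_mul, Subgroup.coe_mul]) }
    have hdvd : p ∣ Nat.card (LinearMap.range (L ^ n)) := by
      rw [Module.natCard_eq_pow_finrank (K := ZMod p), Nat.card_zmod]
      refine dvd_pow_self p ?_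
      exact (Module.finrank_pos (R := ZMod p) (M := LinearMap.range (L ^ n))).ne'
    have h0 : (0 : LinearMap.range (L ^ n)) ∈ MulAction.fixedPoints U (LinearMap.range (L ^ n)) := by
      intro u
      apply Subtype.ext
      change (pm (ZMod p) (u : G) : Matrix X X (ZMod p)) *ᵥ (0 : X → ZMod p) = 0
      rw [Matrix.mulVec_zero]
    obtain ⟨w, hw, hw0⟩ := hU.exists_fixed_point_of_prime_dvd_card_of_fixed_point _ hdvd h0
    have h1 : L w.1 = 0 := hkill w.1 fun u hu => congrArg Subtype.val (hw ⟨u, hu⟩)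
    have h2' : ∀ m, 1 ≤ m → (L ^ m) w.1 = 0 := by
      intro m hm
      obtain ⟨m, rfl⟩ : ∃ m', m = m' + 1 := ⟨m - 1, by omega⟩
      rw [pow_succ, Module.End.mul_apply, h1, map_zero]
    have h2 : w.1 ∈ LinearMap.ker (L ^ n) := LinearMap.mem_ker.2 (h2' n hn1)
    have h3 : w.1 ∈ LinearMap.ker (L ^ n) ⊓ LinearMap.range (L ^ n) := ⟨h2, w.2⟩
    rw [hn.inf_eq_bot, Submodule.mem_bot] at h3
    exact hw0 (Subtype.ext h3.symm)
  refine ⟨n, ?_⟩
  have h1 : L ^ n = 0 := LinearMap.range_eq_bot.1 hbot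
  apply Matrix.toLin'.injective
  rw [Matrix.toLin'_pow, map_zero]
  exact h1

end

section sum

variable {G : Type u} [Group G] [Fintype G]

theorem sum_classes (F : G → ℂ) (hF : ∀ g h, IsConj g h → F g = F h) :
    ∑ g : G, F g = ∑ᶠ K : ConjClasses G, ((Subgroup.centralizer ({Quotient.out K} : Set G)).index : ℂ) *
      F (Quotient.out K) := by
  classical
  have : Fintype (ConjClasses G) := Fintype.ofFinite _
  rw [finsum_eq_sum_of_fintype, ← Finset.sum_fiberwise (s := Finset.univ) (g := (ConjClasses.mk : G → ConjClasses G))]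
  refine Finset.sum_congr rfl fun K _ => ?_
  have h1 : ∀ g : G, ConjClasses.mk g = K ↔ IsConj (Quotient.out K) g := by
    intro g
    have h2 : ConjClasses.mk (Quotient.out K : G) = K := Quotient.out_eq K
    rw [← h2, ConjClasses.mk_eq_mk_iff_isConj, h2]
    exact isConj_comm
  rw [Finset.sum_congr rfl fun g hg => (hF (Quotient.out K) g ((h1 g).1 (Finset.mem_filter.1 hg).2)).symm,
    Finset.sum_const, nsmul_eq_mul, Blocks.CentralScalar.index_centralizer]
  congr 2
  rw [Nat.card_eq_fintype_card, Fintype.card_subtype]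
  congr 1
  ext g
  simp only [Finset.mem_filter, Finset.mem_univ, true_and]
  exact h1 g

end sum

section main

variable {S : Type u} [Group S] [Fintype S] {M : Ideal AlgInt} {p : ℕ}

omit [Fintype S] in
theorem centralizer_inv (g : S) : Subgroup.centralizer ({g⁻¹} : Set S) = Subgroup.centralizer ({g} : Set S) := by
  ext x
  rw [Subgroup.mem_centralizer_singleton_iff, Subgroup.mem_centralizer_singleton_iff]
  exact ⟨fun h => (Commute.inv_right_iff.1 h : Commute x g), fun h => (Commute.inv_right_iff.2 h : Commute x g⁻¹)⟩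

/-- No constituent of `p`-defect zero if every point is fixed by a nontrivial element of the `p`-subgroup `U`. -/
theorem classInner_eq_zero (hM : IsPModular p M) (χ : IrrCharacter S)
    (hχ : (Nat.card S).factorization p = (charDegree (χ : S → ℂ)).factorization p)
    {X : Type v} [Fintype X] [MulAction S X] (U : Subgroup S) (hU : IsPGroup p U)
    (hfix : ∀ x : X, ∃ g ∈ U, g ≠ 1 ∧ g • x = x) : classInner (permC S X) (χ : S → ℂ) = 0 := by
  classical
  have hp : Fact p.Prime := ⟨hM.1⟩
  by_contra hne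
  have hchar := Cfsg.Agent.Characters.Core.isIrr_isCharacter χ.2
  have hinv : ∀ g, (χ : S → ℂ) g⁻¹ = conj ((χ : S → ℂ) g) := fun g =>
    Cfsg.Agent.Characters.Core.isCharacter_apply_inv hchar g
  have hsum : ∑ h : S, (Nat.card {x : X // h • x = x} : ℂ) * (χ : S → ℂ) h⁻¹ ≠ 0 := by
    intro h0
    apply hne
    rw [Cfsg.Agent.Characters.Core.classInner_def]
    have : ∀ g, permC S X g * conj ((χ : S → ℂ) g) = (Nat.card {x : X // g • x = x} : ℂ) * (χ : S → ℂ) g⁻¹ := by
      intro g
      rw [hinv]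
      rfl
    rw [Finset.sum_congr rfl fun g _ => this g, h0, mul_zero]
  -- the degree
  have hdeg := Cfsg.Agent.Blocks.CyclicUpper.charDegree_dvd χ.2
  obtain ⟨n1, hn1, hn1'⟩ := Cfsg.Agent.Characters.Core.isIrr_apply_one χ.2
  have hd1 : charDegree (χ : S → ℂ) = n1 := by
    unfold charDegree
    rw [hn1']
    simp
  rw [hd1] at hdeg hχ
  obtain ⟨d, hd⟩ := hdeg
  have hS0 : Nat.card S ≠ 0 := Nat.card_pos.ne'
  have hd0 : d ≠ 0 := by
    rintro rfl
    rw [mul_zero] at hd
    exact hS0 hd
  have hdp : ¬ p ∣ d := by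
    intro hdvd
    rw [hd, Nat.factorization_mul hn1.ne' hd0, Finsupp.add_apply] at hχ
    have h1 : d.factorization p = 0 := by omega
    have h2 := (hp.out.factorization_pos_of_dvd hd0 hdvd)
    omega
  -- the elements
  have hmem : ∀ g : S, ∃ a ∈ M, (a : ℂ) = (Nat.card (Subgroup.centralizer ({g} : Set S)) : ℂ) *
      (centralChar (χ : S → ℂ) g * centralChar (χ : S → ℂ) g⁻¹) := by
    intro g
    let b : AlgInt := ⟨_, Blocks.CentralScalar.isIntegral_centralChar χ.2 g⁻¹⟩
    by_cases hg : p ∣ Nat.card (Subgroup.centralizer ({g} : Set S))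
    · obtain ⟨k, hk⟩ := hg
      let a : AlgInt := ⟨_, Blocks.CentralScalar.isIntegral_centralChar χ.2 g⟩
      refine ⟨(p : AlgInt) * ((k : AlgInt) * (a * b)), M.mul_mem_right _ hM.2.2, ?_⟩
      rw [hk]
      push_cast
      simp only [a, b]
      ring
    · obtain ⟨a, ha, hag⟩ := centralChar_mem hM χ hsum g (nilp U hU hfix hg)
      refine ⟨((Nat.card (Subgroup.centralizer ({g} : Set S)) : ℕ) : AlgInt) * (a * b),
        M.mul_mem_left _ (M.mul_mem_right _ ha), ?_⟩
      push_cast
      rw [hag]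
  choose a ha hag using hmem
  -- the sum
  have horth : ∑ g : S, (χ : S → ℂ) g * (χ : S → ℂ) g⁻¹ = Nat.card S := by
    have h1 := Cfsg.Agent.Characters.Core.classInner_irr_self χ.2
    rw [Cfsg.Agent.Characters.Core.classInner_def, inv_mul_eq_iff_eq_mul₀ (Nat.cast_ne_zero.2 hS0), mul_one] at h1
    rw [← h1]
    exact Finset.sum_congr rfl fun g _ => by rw [hinv]
  have hcl : IsClassFunction S (χ : S → ℂ) := Cfsg.Agent.Characters.Core.isIrr_isClassFunction χ.2
  rw [sum_classes] at horth
  swap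
  · intro g h hgh
    obtain ⟨c, rfl⟩ := isConj_iff.1 hgh
    have e : (c * g * c⁻¹)⁻¹ = c * g⁻¹ * c⁻¹ := by group
    rw [e, hcl, hcl]
  have : Fintype (ConjClasses S) := Fintype.ofFinite _
  rw [finsum_eq_sum_of_fintype] at horth
  have hkey : ∑ K : ConjClasses S, (a (Quotient.out K) : ℂ) = (d : ℂ) ^ 2 := by
    have hn0 : (n1 : ℂ) ≠ 0 := Nat.cast_ne_zero.2 hn1.ne'
    have h1 : ∀ K : ConjClasses S, (a (Quotient.out K) : ℂ) = (d : ℂ) / n1 *
        (((Subgroup.centralizer ({Quotient.out K} : Set S)).index : ℂ) *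
          ((χ : S → ℂ) (Quotient.out K) * (χ : S → ℂ) (Quotient.out K)⁻¹)) := by
      intro K
      rw [hag]
      unfold centralChar
      rw [centralizer_inv, hn1']
      have h2 : (Nat.card (Subgroup.centralizer ({(Quotient.out K : S)} : Set S)) : ℂ) *
          ((Subgroup.centralizer ({(Quotient.out K : S)} : Set S)).index : ℂ) = (n1 : ℂ) * d := by
        rw [← Nat.cast_mul, Subgroup.card_mul_index, hd, Nat.cast_mul]
      field_simp
      linear_combination (((Subgroup.centralizer ({(Quotient.out K : S)} : Set S)).index : ℂ) *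
        (χ : S → ℂ) (Quotient.out K) * (χ : S → ℂ) (Quotient.out K)⁻¹) * h2
    rw [Finset.sum_congr rfl fun K _ => h1 K, ← Finset.mul_sum, horth, hd, Nat.cast_mul]
    field_simp
  have hd2 : ((d : ℕ) : AlgInt) ^ 2 ∈ M := by
    have h1 : ((d : ℕ) : AlgInt) ^ 2 = ∑ K : ConjClasses S, a (Quotient.out K) := by
      apply Subtype.ext
      push_cast
      rw [← hkey]
    rw [h1]
    exact M.sum_mem fun K _ => ha _
  have hprime : M.IsPrime := hM.2.1.isPrime
  have hdM : ((d : ℕ) : AlgInt) ∈ M := hprime.mem_of_pow_mem 2 hd2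
  have hcop : IsCoprime (d : ℤ) (p : ℤ) := by
    rw [Nat.isCoprime_iff_coprime]
    exact (Nat.Coprime.symm ((Nat.Prime.coprime_iff_not_dvd hp.out).2 hdp))
  obtain ⟨x, y, hxy⟩ := hcop
  apply Blocks.LocalRing.one_notMem hM
  have h1 : (1 : AlgInt) = (x : AlgInt) * ((d : ℕ) : AlgInt) + (y : AlgInt) * ((p : ℕ) : AlgInt) := by
    have := congrArg (Int.cast : ℤ → AlgInt) hxy
    push_cast at this
    exact this.symm
  rw [h1]
  exact M.add_mem (M.mul_mem_left _ hdM) (M.mul_mem_left _ hM.2.2)

/-- **[U2]** -/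
theorem classInner_eq_zero_of_defectZero (hM : IsPModular 2 M) (χ : IrrCharacter S)
    (hχ : (Nat.card S).factorization 2 = (charDegree (χ : S → ℂ)).factorization 2)
    {X : Type v} [Fintype X] [MulAction S X] (U : Subgroup S) (hU : IsPGroup 2 U)
    (hfix : ∀ x : X, ∃ g ∈ U, g ≠ 1 ∧ g • x = x) : classInner (permC S X) (χ : S → ℂ) = 0 :=
  classInner_eq_zero hM χ hχ U hU hfix

end main

end Cfsg.Agent.H686.EB.DefZero
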